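import Mathlib
import Cfsg.Agent.Coprime.Action

/-!
# Coprime action given as `MulDistribMulAction`: invariant Sylow subgroups, invariant complements
-/

set_option autoImplicit false

namespace Cfsg.Agent.CoprimeAct

/-- A coprime group of automorphisms leaves a Sylow `p`-subgroup invariant. -/
theorem exists_invariant_sylow_smul {A G : Type*} [Group A] [Finite A] [Group G] [Finite G]
    [MulDistribMulAction A G] (hcop : (Nat.card A).Coprime (Nat.card G))
    (hsol : Group.IsSolvable A ∨ Group.IsSolvable G) (p : ℕ) [Fact p.Prime] :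
    ∃ Q : Sylow p G, ∀ a : A, ∀ x ∈ (Q : Subgroup G), a • x ∈ (Q : Subgroup G) := by
  let φ : A →* MulAut G := MulDistribMulAction.toMulAut A G
  let X := G ⋊[φ] A
  haveI : Finite X := Finite.of_equiv _ SemidirectProduct.equivProd.symm
  let i : G →* X := SemidirectProduct.inl
  have hi : Function.Injective i := SemidirectProduct.inl_injective
  let j : A →* X := SemidirectProduct.inr
  have hj : Function.Injective j := SemidirectProduct.inr_injective
  have hconj : ∀ (a : A) (g : G), j a * i g * (j a)⁻¹ = i (a • g) := by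
    intro a g
    rw [← map_inv, ← SemidirectProduct.inl_aut]
    rfl
  have hAK : j.range ≤ Subgroup.normalizer (i.range : Set X) := by
    rintro _ ⟨a, rfl⟩
    rw [Subgroup.mem_normalizer_iff]
    intro x
    constructor
    · rintro ⟨g, rfl⟩
      exact ⟨a • g, (hconj a g).symm⟩
    · rintro ⟨g, hg⟩
      refine ⟨a⁻¹ • g, ?_⟩
      have h2 := hconj a (a⁻¹ • g)
      rw [smul_inv_smul, hg] at h2
      exact mul_left_cancel (mul_right_cancel h2)
  have hcK : Nat.card i.range = Nat.card G :=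
    (Nat.card_congr (MonoidHom.ofInjective hi).toEquiv).symm
  have hcB : Nat.card j.range = Nat.card A :=
    (Nat.card_congr (MonoidHom.ofInjective hj).toEquiv).symm
  have hs : Group.IsSolvable j.range ∨ Group.IsSolvable i.range :=
    hsol.imp (fun (h : Group.IsSolvable A) => by
        haveI := h; exact Group.isSolvable_of_surjective (f := (MonoidHom.ofInjective hj).toMonoidHom)
          (MonoidHom.ofInjective hj).surjective)
      (fun (h : Group.IsSolvable G) => by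
        haveI := h; exact Group.isSolvable_of_surjective (f := (MonoidHom.ofInjective hi).toMonoidHom)
          (MonoidHom.ofInjective hi).surjective)
  obtain ⟨P, hP⟩ := Cfsg.Agent.Coprime.exists_invariant_sylow p hAK (by rwa [hcK, hcB]) hs
  let e : G →* i.range := (MonoidHom.ofInjective hi).toMonoidHom
  have he : Function.Surjective e := (MonoidHom.ofInjective hi).surjective
  have hker : e.ker = ⊥ := (MonoidHom.ker_eq_bot_iff e).2 (MonoidHom.ofInjective hi).injective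
  refine ⟨P.comapOfInjective e (MonoidHom.ofInjective hi).injective
    (by rw [MonoidHom.range_eq_top.2 he]; exact le_top), fun a x hx => ?_⟩
  change e (a • x) ∈ (P : Subgroup i.range)
  change e x ∈ (P : Subgroup i.range) at hx
  have h := (Subgroup.mem_normalizer_iff.1 (hP ⟨a, rfl⟩) (i x)).1 ⟨e x, hx, rfl⟩
  rw [hconj] at h
  obtain ⟨y, hy, hy'⟩ := h
  exact (Subtype.ext hy' : y = e (a • x)) ▸ hy

/-- **Maschke.** A coprime action on an abelian group of exponent `p` has invariant complements. -/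
theorem exists_invariant_complement {A V : Type*} [Group A] [Finite A] [CommGroup V]
    (p : ℕ) [Fact p.Prime] (hV : ∀ v : V, v ^ p = 1) (hA : ¬ p ∣ Nat.card A)
    (act : A → V →* V) (hone : ∀ v, act 1 v = v) (hmul : ∀ a b v, act (a * b) v = act a (act b v))
    (W : Subgroup V) (hW : ∀ a, ∀ v ∈ W, act a v ∈ W) :
    ∃ K : Subgroup V, (∀ a, ∀ v ∈ K, act a v ∈ K) ∧ W ⊓ K = ⊥ ∧ W ⊔ K = ⊤ := by
  classical
  haveI := Fintype.ofFinite A
  -- some complement
  obtain ⟨K₀, hK₀, hK₀'⟩ : ∃ K₀ : Subgroup V, W ⊓ K₀ = ⊥ ∧ W ⊔ K₀ = ⊤ := by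
    obtain ⟨K₀, hK₀⟩ := zorn_le₀ {K : Subgroup V | W ⊓ K = ⊥} (fun c hc hch => by
      rcases c.eq_empty_or_nonempty with rfl | hne
      · exact ⟨⊥, inf_bot_eq W, fun z hz => absurd hz (Set.notMem_empty z)⟩
      refine ⟨sSup c, ?_, fun z hz => le_sSup hz⟩
      rw [Set.mem_setOf_eq, eq_bot_iff]
      rintro w ⟨hw, hw'⟩
      obtain ⟨K, hK, hwK⟩ := (Subgroup.mem_sSup_of_directedOn hne hch.directedOn).1 hw'
      exact (hc hK).le ⟨hw, hwK⟩)
    refine ⟨K₀, hK₀.prop, ?_⟩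
    by_contra hne
    obtain ⟨v, hv⟩ : ∃ v, v ∉ W ⊔ K₀ := by
      by_contra hh
      push Not at hh
      exact hne ((Subgroup.eq_top_iff' _).2 hh)
    have hvK : v ∉ K₀ := fun h => hv (Subgroup.mem_sup_right h)
    have hne' : W ⊓ (K₀ ⊔ Subgroup.zpowers v) ≠ ⊥ := fun h =>
      hvK (hK₀.le_of_ge h le_sup_left (Subgroup.mem_sup_right (Subgroup.mem_zpowers v)))
    obtain ⟨w, ⟨hw, hw'⟩, hw1⟩ := Subgroup.ne_bot_iff_exists_ne_one.1 hne' |>
      fun ⟨w, hw⟩ => (⟨w.1, w.2, fun h => hw (Subtype.ext h)⟩ : ∃ w, w ∈ W ⊓ (K₀ ⊔ Subgroup.zpowers v) ∧ w ≠ 1)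
    obtain ⟨k, hk, z, hz, rfl⟩ := Subgroup.mem_sup.1 hw'
    obtain ⟨i, rfl⟩ := hz
    dsimp only at hw hw1
    by_cases hi : (p : ℤ) ∣ i
    · obtain ⟨j, rfl⟩ := hi
      rw [zpow_mul, zpow_natCast, hV, one_zpow, mul_one] at hw hw1
      exact hw1 (hK₀.prop.le ⟨hw, hk⟩)
    · obtain ⟨a, b, hab⟩ := ((Nat.prime_iff_prime_int.1 Fact.out).coprime_iff_not_dvd.2 hi :
        IsCoprime (p : ℤ) i)
      apply hv
      have h1 : v ^ i ∈ W ⊔ K₀ := by
        have := mul_mem (Subgroup.mem_sup_right (inv_mem hk) : k⁻¹ ∈ W ⊔ K₀) (Subgroup.mem_sup_left hw)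
        rwa [inv_mul_cancel_left] at this
      have h2 : v = (v ^ i) ^ b := by
        conv_lhs => rw [← zpow_one v, ← hab, zpow_add, mul_comm a, zpow_mul, zpow_natCast, hV,
          one_zpow, one_mul, mul_comm b, zpow_mul]
      rw [h2]
      exact zpow_mem h1 b
  have huniq : ∀ w₁ ∈ W, ∀ w₂ ∈ W, ∀ k₁ ∈ K₀, ∀ k₂ ∈ K₀, w₁ * k₁ = w₂ * k₂ → w₁ = w₂ := by
    intro w₁ h₁ w₂ h₂ k₁ h₁' k₂ h₂' he
    have h : w₂⁻¹ * w₁ = k₂ * k₁⁻¹ := by
      rw [eq_mul_inv_iff_mul_eq, mul_assoc, he, inv_mul_cancel_left]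
    have := hK₀.le (Subgroup.mem_inf.2 ⟨mul_mem (inv_mem h₂) h₁, h ▸ mul_mem h₂' (inv_mem h₁')⟩)
    exact (inv_mul_eq_one.1 (Subgroup.mem_bot.1 this)).symm
  have hdec : ∀ v, ∃ w ∈ W, ∃ k ∈ K₀, w * k = v := fun v =>
    Subgroup.mem_sup.1 (hK₀' ▸ Subgroup.mem_top v)
  choose f hfW k hkK hfk using hdec
  have hfid : ∀ v ∈ W, f v = v := fun v hv =>
    huniq _ (hfW v) v hv _ (hkK v) 1 (one_mem _) (by rw [hfk, mul_one])
  have hfmul : ∀ u v, f (u * v) = f u * f v := fun u v =>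
    huniq _ (hfW _) _ (mul_mem (hfW u) (hfW v)) _ (hkK _) _ (mul_mem (hkK u) (hkK v))
      (by rw [hfk, mul_mul_mul_comm, hfk, hfk])
  let fh : V →* V := MonoidHom.mk' f hfmul
  let F : V →* V := ∏ a : A, (act a).comp (fh.comp (act a⁻¹))
  have hFv : ∀ v, F v = ∏ a : A, act a (f (act a⁻¹ v)) := fun v => MonoidHom.finsetProd_apply _ _ _
  have hFW : ∀ v, F v ∈ W := fun v => by
    rw [hFv]; exact Subgroup.prod_mem _ fun a _ => hW a _ (hfW _)
  have hFid : ∀ w ∈ W, F w = w ^ Nat.card A := by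
    intro w hw
    rw [hFv, Finset.prod_congr rfl (fun a _ => show act a (f (act a⁻¹ w)) = w by
      rw [hfid _ (hW _ _ hw), ← hmul, mul_inv_cancel, hone]), Finset.prod_const, Finset.card_univ,
      Nat.card_eq_fintype_card]
  have hFeq : ∀ b v, F (act b v) = act b (F v) := by
    intro b v
    rw [hFv, hFv, map_prod, ← Equiv.prod_comp (Equiv.mulLeft b)]
    refine Finset.prod_congr rfl fun a _ => ?_
    rw [Equiv.coe_mulLeft, hmul, ← hmul _ b v]
    group
  obtain ⟨m, -, hm⟩ := Nat.exists_mul_mod_eq_one_of_coprime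
    ((Nat.Prime.coprime_iff_not_dvd Fact.out).2 hA).symm (Fact.out : p.Prime).one_lt
  have hpow : ∀ v : V, (v ^ Nat.card A) ^ m = v := by
    intro v
    rw [← pow_mul, pow_eq_pow_mod _ (hV v), hm, pow_one]
  refine ⟨F.ker, fun a v hv => ?_, ?_, ?_⟩
  · rw [MonoidHom.mem_ker] at hv ⊢
    rw [hFeq, hv, map_one]
  · rw [eq_bot_iff]
    intro w hw
    obtain ⟨hw, hw'⟩ := Subgroup.mem_inf.1 hw
    rw [MonoidHom.mem_ker, hFid w hw] at hw'
    rw [Subgroup.mem_bot, ← hpow w, hw', one_pow]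
  · rw [eq_top_iff]
    intro v _
    have hk : v * ((F v) ^ m)⁻¹ ∈ F.ker := by
      rw [MonoidHom.mem_ker, map_mul, map_inv, map_pow, hFid _ (hFW v), hpow, mul_inv_cancel]
    have h2 := Subgroup.mul_mem_sup (pow_mem (hFW v) m) hk
    rwa [mul_comm v, mul_inv_cancel_left] at h2

end Cfsg.Agent.CoprimeAct
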